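import Mathlib
import Cfsg.Prelude.Def_Sporadic_a
import Cfsg.Agent.Lib.Helper28.M24Trans

set_option autoImplicit false

namespace Cfsg.Agent.Lib.Helper28.M24Six

open Cfsg Cfsg.Agent.Lib.Helper3.Golay Cfsg.Agent.Lib.Helper3.Golay2
  Cfsg.Agent.Lib.Helper3.GolayM24 Cfsg.Agent.Lib.Helper28.M24Trans
open scoped Pointwise

theorem list6 (l : List GolayPt) (h : l.length = 6) :
    ∃ a b c d e f, l = [a, b, c, d, e, f] := by
  match l, h with
  | [a, b, c, d, e, f], _ => exact ⟨a, b, c, d, e, f, rfl⟩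

theorem smul_octad {g : Equiv.Perm GolayPt} (hg : g ∈ M24) {o : Finset GolayPt}
    (ho : o ∈ octads) : g • o ∈ octads := by
  rw [mem_octads] at ho ⊢
  exact ⟨smul_mem_supports hg ho.1, by rw [Finset.card_smul_finset]; exact ho.2⟩

theorem O0_octad : supp 2503 ∈ octads := supp_mem_octads (by decide +kernel)

theorem oct_unique {o : Finset GolayPt} (ho : o ∈ octads)
    (h : ∀ f ∈ [23, 0, 1, 2, 3], pt f ∈ o) : o = supp 2503 := by
  by_contra hne
  have h1 := octads_inter_le ho O0_octad hne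
  have h2 : ({pt 23, pt 0, pt 1, pt 2, pt 3} : Finset GolayPt) ⊆ o ∩ supp 2503 := by
    intro p hp
    simp only [Finset.mem_insert, Finset.mem_singleton] at hp
    rw [Finset.mem_inter]
    rcases hp with rfl | rfl | rfl | rfl | rfl
    · exact ⟨h 23 (by simp), by rw [mem_supp, idx_pt 23 (by norm_num)]; exact O0_mem 23 (by simp)⟩
    · exact ⟨h 0 (by simp), by rw [mem_supp, idx_pt 0 (by norm_num)]; exact O0_mem 0 (by simp)⟩
    · exact ⟨h 1 (by simp), by rw [mem_supp, idx_pt 1 (by norm_num)]; exact O0_mem 1 (by simp)⟩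
    · exact ⟨h 2 (by simp), by rw [mem_supp, idx_pt 2 (by norm_num)]; exact O0_mem 2 (by simp)⟩
    · exact ⟨h 3 (by simp), by rw [mem_supp, idx_pt 3 (by norm_num)]; exact O0_mem 3 (by simp)⟩
  have h3 := Finset.card_le_card h2
  have h4 : ({pt 23, pt 0, pt 1, pt 2, pt 3} : Finset GolayPt).card = 5 := by decide
  omega

theorem orbit7' {g : Equiv.Perm GolayPt} (hg' : g ∈ fixG [3, 2, 1, 0, 23]) :
    idx (g (pt 4)) < 23 ∧ idx (g (pt 4)) ∉ [0, 1, 2, 3, 5, 14, 17] := by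
  have hi : g⁻¹ ∈ fixG [3, 2, 1, 0, 23] := (fixG _).inv_mem hg'
  have h1 : ¬ (cw 2503).testBit (idx (g (pt 4))) = true := by
    intro h
    have h2 := apply_mem_supp (O0_inv hi) (mem_supp.mpr h)
    rw [show g⁻¹ (g (pt 4)) = pt 4 from by rw [Equiv.Perm.inv_eq_iff_eq], mem_supp,
      idx_pt 4 (by norm_num)] at h2
    have h3 := O0_cases 4 (by norm_num) h2
    simp at h3
  have h2 := idx_lt (g (pt 4))
  constructor
  · by_contra h
    have h3 : idx (g (pt 4)) = 23 := by omega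
    exact h1 (by rw [h3]; exact O0_mem 23 (by simp))
  · intro h
    exact h1 (O0_mem _ (by
      simp only [List.mem_cons, List.not_mem_nil, or_false] at h ⊢
      omega))

theorem fixG_mono {l l' : List ℕ} (h : ∀ f ∈ l, f ∈ l') {g : Equiv.Perm GolayPt}
    (hg : g ∈ fixG l') : g ∈ fixG l :=
  ⟨hg.1, fun f hf => hg.2 f (h f hf)⟩

theorem card_fix4 : Nat.card (fixG [4, 3, 2, 1, 0, 23]) = 3 := by
  have h := card_step [3, 2, 1, 0, 23] 4
    (orb fun i => Nat.blt i 23 && decide (i ∉ [0, 1, 2, 3, 5, 14, 17])) (by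
    intro g hg
    rw [mem_orb, Bool.and_eq_true, Nat.blt_eq, decide_eq_true_eq]
    exact orbit7' hg) (by
    intro x hx
    rw [mem_orb, Bool.and_eq_true, Nat.blt_eq, decide_eq_true_eq] at hx
    obtain ⟨u, hu, e⟩ := lvl_fixG (L7chk (idx x) hx.1 hx.2)
    exact ⟨u, fixG_mono (by decide) hu, by rw [e, pt_idx]⟩)
  rw [card_fix5] at h
  have h2 : (orb fun i => Nat.blt i 23 && decide (i ∉ [0, 1, 2, 3, 5, 14, 17])).card = 16 := by
    rfl
  rw [h2] at h
  omega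

theorem norm6 (x₁ x₂ x₃ x₄ x₅ x₆ : GolayPt) (hnd : [x₁, x₂, x₃, x₄, x₅, x₆].Nodup) :
    ∃ h ∈ M24, h x₁ = pt 23 ∧ h x₂ = pt 0 ∧ h x₃ = pt 1 ∧ h x₄ = pt 2 ∧ h x₅ = pt 3 ∧
      ((h x₆ = pt 5 ∧ ∃ o ∈ octads, ∀ x ∈ [x₁, x₂, x₃, x₄, x₅, x₆], x ∈ o) ∨
       (h x₆ = pt 4 ∧ ¬ ∃ o ∈ octads, ∀ x ∈ [x₁, x₂, x₃, x₄, x₅, x₆], x ∈ o)) := by
  have hnd5 : [x₁, x₂, x₃, x₄, x₅].Nodup := by
    have := hnd
    simp only [List.nodup_cons, List.mem_cons, List.not_mem_nil, or_false, not_or,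
      List.nodup_nil, and_true, not_false_eq_true] at this ⊢
    tauto
  obtain ⟨h, hh, e1, e2, e3, e4, e5⟩ := trans5 x₁ x₂ x₃ x₄ x₅ hnd5
  have key : ∀ (a : GolayPt) (i : ℕ), a ≠ x₆ → h a = pt i → idx (h x₆) ≠ i := by
    intro a i hab e
    apply idx_ne
    rw [← e]
    exact fun hh' => hab (h.injective hh').symm
  simp only [List.nodup_cons, List.mem_cons, List.not_mem_nil, or_false, not_or,
      List.nodup_nil, and_true, not_false_eq_true] at hnd
  have n1 := key x₁ 23 hnd.1.2.2.2.2 e1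
  have n2 := key x₂ 0 hnd.2.1.2.2.2 e2
  have n3 := key x₃ 1 hnd.2.2.1.2.2 e3
  have n4 := key x₄ 2 hnd.2.2.2.1.2 e4
  have n5 := key x₅ 3 hnd.2.2.2.2 e5
  have n6 := idx_lt (h x₆)
  have fin : ∀ (u : Equiv.Perm GolayPt), u ∈ fixG [3, 2, 1, 0, 23] →
      (u * h) x₁ = pt 23 ∧ (u * h) x₂ = pt 0 ∧ (u * h) x₃ = pt 1 ∧ (u * h) x₄ = pt 2 ∧
        (u * h) x₅ = pt 3 := by
    intro u hu
    refine ⟨?_, ?_, ?_, ?_, ?_⟩
    · rw [Equiv.Perm.mul_apply, e1]; exact hu.2 23 (by simp)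
    · rw [Equiv.Perm.mul_apply, e2]; exact hu.2 0 (by simp)
    · rw [Equiv.Perm.mul_apply, e3]; exact hu.2 1 (by simp)
    · rw [Equiv.Perm.mul_apply, e4]; exact hu.2 2 (by simp)
    · rw [Equiv.Perm.mul_apply, e5]; exact hu.2 3 (by simp)
  have concl : ∀ k ∈ M24, k x₁ = pt 23 → k x₂ = pt 0 → k x₃ = pt 1 → k x₄ = pt 2 →
      k x₅ = pt 3 → (k x₆ = pt 5 ∨ k x₆ = pt 4) →
      ((k x₆ = pt 5 ∧ ∃ o ∈ octads, ∀ x ∈ [x₁, x₂, x₃, x₄, x₅, x₆], x ∈ o) ∨
       (k x₆ = pt 4 ∧ ¬ ∃ o ∈ octads, ∀ x ∈ [x₁, x₂, x₃, x₄, x₅, x₆], x ∈ o)) := by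
    intro k hk k1 k2 k3 k4 k5 k6
    rcases k6 with k6 | k6
    · left
      refine ⟨k6, k⁻¹ • supp 2503, smul_octad (M24.inv_mem hk) O0_octad, ?_⟩
      intro x hx
      rw [Finset.mem_inv_smul_finset_iff, Equiv.Perm.smul_def, mem_supp]
      simp only [List.mem_cons, List.not_mem_nil, or_false] at hx
      rcases hx with rfl | rfl | rfl | rfl | rfl | rfl
      · rw [k1, idx_pt 23 (by norm_num)]; exact O0_mem 23 (by simp)
      · rw [k2, idx_pt 0 (by norm_num)]; exact O0_mem 0 (by simp)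
      · rw [k3, idx_pt 1 (by norm_num)]; exact O0_mem 1 (by simp)
      · rw [k4, idx_pt 2 (by norm_num)]; exact O0_mem 2 (by simp)
      · rw [k5, idx_pt 3 (by norm_num)]; exact O0_mem 3 (by simp)
      · rw [k6, idx_pt 5 (by norm_num)]; exact O0_mem 5 (by simp)
    · right
      refine ⟨k6, ?_⟩
      rintro ⟨o, ho, hall⟩
      have hm : ∀ x ∈ [x₁, x₂, x₃, x₄, x₅, x₆], k x ∈ k • o := by
        intro x hx
        exact Finset.smul_mem_smul_finset (hall x hx)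
      have h1 : k • o = supp 2503 := by
        apply oct_unique (smul_octad hk ho)
        intro f hf
        simp only [List.mem_cons, List.not_mem_nil, or_false] at hf
        rcases hf with rfl | rfl | rfl | rfl | rfl
        · rw [← k1]; exact hm _ (by simp)
        · rw [← k2]; exact hm _ (by simp)
        · rw [← k3]; exact hm _ (by simp)
        · rw [← k4]; exact hm _ (by simp)
        · rw [← k5]; exact hm _ (by simp)
      have h2 := hm x₆ (by simp)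
      rw [h1, k6, mem_supp, idx_pt 4 (by norm_num)] at h2
      have h3 := O0_cases 4 (by norm_num) h2
      simp at h3
  by_cases hc : idx (h x₆) ∈ [5, 14, 17]
  · obtain ⟨u, hu, e⟩ := lvl_fixG_inv (L6chk (idx (h x₆)) hc)
    rw [pt_idx] at e
    obtain ⟨f1, f2, f3, f4, f5⟩ := fin u hu
    have hk := M24.mul_mem hu.1 hh
    exact ⟨u * h, hk, f1, f2, f3, f4, f5,
      concl _ hk f1 f2 f3 f4 f5 (Or.inl (by rw [Equiv.Perm.mul_apply, e]))⟩
  · obtain ⟨u, hu, e⟩ := lvl_fixG_inv (L7chk (idx (h x₆)) (by omega) (by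
      simp only [List.mem_cons, List.not_mem_nil, or_false] at hc ⊢
      omega))
    rw [pt_idx] at e
    have hu' : u ∈ fixG [3, 2, 1, 0, 23] := fixG_mono (by decide) hu
    obtain ⟨f1, f2, f3, f4, f5⟩ := fin u hu'
    have hk := M24.mul_mem hu.1 hh
    exact ⟨u * h, hk, f1, f2, f3, f4, f5,
      concl _ hk f1 f2 f3 f4 f5 (Or.inr (by rw [Equiv.Perm.mul_apply, e]))⟩

theorem conj_card {h : Equiv.Perm GolayPt} (hh : h ∈ M24) (E : Finset GolayPt) (l : List ℕ)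
    (hE : ∀ p, p ∈ E ↔ ∃ f ∈ l, h p = pt f) :
    Nat.card {g : Equiv.Perm GolayPt // g ∈ M24 ∧ ∀ p ∈ E, g p = p} = Nat.card (fixG l) := by
  apply Nat.card_congr
  exact
    { toFun := fun g => ⟨h * g.1 * h⁻¹, M24.mul_mem (M24.mul_mem hh g.2.1) (M24.inv_mem hh), by
        intro f hf
        have hp : h⁻¹ (pt f) ∈ E := by
          rw [hE]
          exact ⟨f, hf, by rw [← Equiv.Perm.mul_apply, mul_inv_cancel, Equiv.Perm.one_apply]⟩
        rw [Equiv.Perm.mul_apply, Equiv.Perm.mul_apply, g.2.2 _ hp, ← Equiv.Perm.mul_apply,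
          mul_inv_cancel, Equiv.Perm.one_apply]⟩
      invFun := fun k => ⟨h⁻¹ * k.1 * h, M24.mul_mem (M24.mul_mem (M24.inv_mem hh) k.2.1) hh, by
        intro p hp
        obtain ⟨f, hf, e⟩ := (hE p).mp hp
        rw [Equiv.Perm.mul_apply, Equiv.Perm.mul_apply, e, k.2.2 f hf, ← e,
          ← Equiv.Perm.mul_apply, inv_mul_cancel, Equiv.Perm.one_apply]⟩
      left_inv := fun g => by
        apply Subtype.ext
        simp only
        group
      right_inv := fun k => by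
        apply Subtype.ext
        simp only
        group }

end Cfsg.Agent.Lib.Helper28.M24Six
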