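import Mathlib
import Cfsg.Prelude.Def_Sporadic_a
import Cfsg.Agent.Lib.Helper28.M24Trans
import Cfsg.Agent.Lib.Helper28.M24Six

set_option autoImplicit false

namespace Cfsg.Agent.Lib.Helper28.M24Enum

open Cfsg Cfsg.Agent.Lib.Helper3.Golay Cfsg.Agent.Lib.Helper3.Golay2
  Cfsg.Agent.Lib.Helper3.GolayM24 Cfsg.Agent.Lib.Helper28.M24Trans
  Cfsg.Agent.Lib.Helper28.M24Six
open scoped Pointwise

def IsIdxFn (g : Equiv.Perm GolayPt) (F : ℕ → ℕ) : Prop := ∀ p, idx (g p) = F (idx p)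

theorem isIdx_one : IsIdxFn 1 (fun i => i) := fun _ => rfl

theorem isIdx_P {t : ℕ} (h : vldB t = true) : IsIdxFn (P t) (dig t) := fun p => idx_P h p

theorem isIdx_mul {g h : Equiv.Perm GolayPt} {F G : ℕ → ℕ} (hg : IsIdxFn g F)
    (hh : IsIdxFn h G) : IsIdxFn (g * h) (fun i => F (G i)) := by
  intro p
  rw [Equiv.Perm.mul_apply, hg, hh]

theorem isIdx_Pinv {t : ℕ} (h : vldB t = true) : IsIdxFn (P t)⁻¹ (dig (invT t)) := by
  intro p
  have h1 := idx_P h ((P t)⁻¹ p)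
  rw [show P t ((P t)⁻¹ p) = p from by
    rw [← Equiv.Perm.mul_apply, mul_inv_cancel, Equiv.Perm.one_apply]] at h1
  rw [h1, (vld_spec h _ (idx_lt _)).1]

theorem isIdx_lt {g : Equiv.Perm GolayPt} {F : ℕ → ℕ} (hg : IsIdxFn g F) {i : ℕ} (hi : i < 24) :
    F i < 24 := by
  have h := hg (pt i)
  rw [idx_pt i hi] at h
  rw [← h]
  exact idx_lt _

theorem isIdx_pt {g : Equiv.Perm GolayPt} {F : ℕ → ℕ} (hg : IsIdxFn g F) {i : ℕ} (hi : i < 24) :
    g (pt i) = pt (F i) := by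
  have h := hg (pt i)
  rw [idx_pt i hi] at h
  rw [← h, pt_idx]

theorem isIdx_eq {g h : Equiv.Perm GolayPt} {F G : ℕ → ℕ} (hg : IsIdxFn g F)
    (hh : IsIdxFn h G) (e : ∀ i < 24, F i = G i) : g = h := by
  apply Equiv.ext
  intro p
  apply idx_injective
  rw [hg, hh, e _ (idx_lt p)]

theorem isIdx_congr {g h : Equiv.Perm GolayPt} {F G : ℕ → ℕ} (hg : IsIdxFn g F)
    (hh : IsIdxFn h G) (e : g = h) : ∀ i < 24, F i = G i := by
  intro i hi
  have h1 := hg (pt i)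
  have h2 := hh (pt i)
  rw [idx_pt i hi] at h1 h2
  rw [← h1, ← h2, e]

theorem isIdx_fix {g : Equiv.Perm GolayPt} {F : ℕ → ℕ} (hg : IsIdxFn g F) (p : GolayPt) :
    g p = p ↔ F (idx p) = idx p := by
  rw [← hg p]
  exact ⟨fun h => by rw [h], fun h => idx_injective h⟩

def fixF (g : Equiv.Perm GolayPt) : Finset GolayPt := Finset.univ.filter fun p => g p = p

theorem mem_fixF {g : Equiv.Perm GolayPt} {p : GolayPt} : p ∈ fixF g ↔ g p = p := by
  unfold fixF
  simp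

def fixMask (F : ℕ → ℕ) : ℕ :=
  (List.range 24).foldl (fun acc i => if Nat.beq (F i) i = true then acc ||| 2 ^ i else acc) 0

theorem foldl_mask_testBit (c : ℕ → Bool) (l : List ℕ) (acc : ℕ) (j : ℕ) :
    (l.foldl (fun acc i => if c i = true then acc ||| 2 ^ i else acc) acc).testBit j =
      (acc.testBit j || decide (j ∈ l ∧ c j = true)) := by
  induction l generalizing acc with
  | nil => simp
  | cons a l ih =>
    rw [List.foldl_cons, ih]
    by_cases hc : c a = true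
    · rw [if_pos hc, Nat.testBit_or, Nat.testBit_two_pow]
      by_cases hja : j = a
      · subst hja
        simp [hc]
      · have : ¬ a = j := fun e => hja e.symm
        simp [hja, this]
    · rw [if_neg hc]
      by_cases hja : j = a
      · subst hja
        simp [hc]
      · simp [hja]

theorem fixMask_testBit (F : ℕ → ℕ) (j : ℕ) (hj : j < 24) :
    (fixMask F).testBit j = Nat.beq (F j) j := by
  unfold fixMask
  rw [foldl_mask_testBit (fun i => Nat.beq (F i) i)]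
  cases hb : Nat.beq (F j) j <;> simp [hj, hb]

theorem fixF_eq {g : Equiv.Perm GolayPt} {F : ℕ → ℕ} (hg : IsIdxFn g F) :
    fixF g = support₂ (dec (fixMask F)) := by
  ext p
  rw [mem_fixF, isIdx_fix hg]
  unfold support₂
  rw [Finset.mem_filter]
  simp only [Finset.mem_univ, true_and]
  rw [dec_ne_zero_iff, fixMask_testBit F _ (idx_lt p)]
  constructor
  · intro h
    rw [h]
    exact Nat.beq_refl _
  · exact Nat.eq_of_beq_eq_true

theorem card_fixF {g : Equiv.Perm GolayPt} {F : ℕ → ℕ} (hg : IsIdxFn g F) :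
    (fixF g).card = pc (fixMask F) := by
  rw [fixF_eq hg, card_support_dec]

theorem fixF_conj (g h : Equiv.Perm GolayPt) : fixF (h * g * h⁻¹) = h • fixF g := by
  ext p
  rw [mem_fixF, ← Finset.inv_smul_mem_iff, mem_fixF, Equiv.Perm.smul_def, Equiv.Perm.mul_apply,
    Equiv.Perm.mul_apply]
  constructor
  · intro e
    exact (Equiv.Perm.inv_eq_iff_eq.mpr e.symm).symm
  · intro e
    rw [e, ← Equiv.Perm.mul_apply, mul_inv_cancel, Equiv.Perm.one_apply]

theorem smul_dec_of_check {g : Equiv.Perm GolayPt} {F : ℕ → ℕ} (hg : IsIdxFn g F) {m m' : ℕ}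
    (h : ∀ i < 24, m.testBit i = m'.testBit (F i)) :
    g • support₂ (dec m) = support₂ (dec m') := by
  ext p
  rw [← Finset.inv_smul_mem_iff]
  unfold support₂
  rw [Finset.mem_filter, Finset.mem_filter]
  simp only [Finset.mem_univ, true_and]
  rw [dec_ne_zero_iff, dec_ne_zero_iff, h _ (idx_lt _), ← hg, Equiv.Perm.smul_def,
    ← Equiv.Perm.mul_apply, mul_inv_cancel, Equiv.Perm.one_apply]

theorem coset48 {g w : Equiv.Perm GolayPt} (hg : g ∈ M24) (hw : w ∈ M24)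
    (h : ∀ f ∈ [3, 2, 1, 0, 23], g (pt f) = w (pt f)) :
    ∃ a ∈ [5, 14, 17], ∃ b, b < 23 ∧ b ∉ [0, 1, 2, 3, 5, 14, 17] ∧
      vldB (U6.getD a 0) = true ∧ vldB (U7.getD b 0) = true ∧
      g = w * P (U6.getD a 0) * P (U7.getD b 0) := by
  have hk : w⁻¹ * g ∈ fixG [3, 2, 1, 0, 23] := by
    refine ⟨M24.mul_mem (M24.inv_mem hw) hg, ?_⟩
    intro f hf
    rw [Equiv.Perm.mul_apply, Equiv.Perm.inv_eq_iff_eq, h f hf]
  have ha := orbit6 hk
  have hv6 : vldB (U6.getD (idx ((w⁻¹ * g) (pt 5))) 0) = true := by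
    have := L6chk _ ha
    unfold lvlB at this
    simp only [Bool.and_eq_true] at this
    exact this.1.1.1.1
  obtain ⟨m1, m2, m3⟩ := lvl_sound (L6chk _ ha)
  rw [pt_idx] at m3
  have hk' : (P (U6.getD (idx ((w⁻¹ * g) (pt 5))) 0))⁻¹ * (w⁻¹ * g) ∈
      fixG [5, 3, 2, 1, 0, 23] := by
    refine ⟨M24.mul_mem (M24.inv_mem m1) hk.1, ?_⟩
    intro f hf
    rw [Equiv.Perm.mul_apply, Equiv.Perm.inv_eq_iff_eq]
    rcases List.mem_cons.mp hf with rfl | hf
    · rw [m3]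
    · rw [hk.2 f hf, m2 f hf]
  have hb := orbit7 hk'
  have hv7 : vldB (U7.getD (idx (((P (U6.getD (idx ((w⁻¹ * g) (pt 5))) 0))⁻¹ * (w⁻¹ * g))
      (pt 4))) 0) = true := by
    have := L7chk _ hb.1 hb.2
    unfold lvlB at this
    simp only [Bool.and_eq_true] at this
    exact this.1.1.1.1
  obtain ⟨n1, n2, n3⟩ := lvl_sound (L7chk _ hb.1 hb.2)
  rw [pt_idx] at n3
  have hk'' : (P (U7.getD (idx (((P (U6.getD (idx ((w⁻¹ * g) (pt 5))) 0))⁻¹ * (w⁻¹ * g))
      (pt 4))) 0))⁻¹ * ((P (U6.getD (idx ((w⁻¹ * g) (pt 5))) 0))⁻¹ * (w⁻¹ * g)) ∈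
      fixG [4, 5, 3, 2, 1, 0, 23] := by
    refine ⟨M24.mul_mem (M24.inv_mem n1) hk'.1, ?_⟩
    intro f hf
    rw [Equiv.Perm.mul_apply, Equiv.Perm.inv_eq_iff_eq]
    rcases List.mem_cons.mp hf with rfl | hf
    · rw [n3]
    · rw [hk'.2 f hf, n2 f hf]
  have e := rigid hk''
  refine ⟨_, ha, _, hb.1, hb.2, hv6, hv7, ?_⟩
  generalize P (U6.getD (idx ((w⁻¹ * g) (pt 5))) 0) = A at e
  generalize P (U7.getD (idx ((A⁻¹ * (w⁻¹ * g)) (pt 4))) 0) = B at e
  have : g = w * A * B * (B⁻¹ * (A⁻¹ * (w⁻¹ * g))) := by group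
  rw [this, e, mul_one]

theorem take5 (s : Finset GolayPt) (h : 5 ≤ s.card) :
    ∃ a b c d e, [a, b, c, d, e].Nodup ∧ a ∈ s ∧ b ∈ s ∧ c ∈ s ∧ d ∈ s ∧ e ∈ s := by
  obtain ⟨t, hts, ht⟩ := Finset.exists_subset_card_eq h
  have hl : t.toList.length = 5 := by rw [Finset.length_toList, ht]
  have hnd := t.nodup_toList
  have hm : ∀ x ∈ t.toList, x ∈ s := fun x hx => hts (Finset.mem_toList.mp hx)
  match t.toList, hl, hnd, hm with
  | [a, b, c, d, e], _, hnd, hm =>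
    exact ⟨a, b, c, d, e, hnd, hm a (by simp), hm b (by simp), hm c (by simp), hm d (by simp),
      hm e (by simp)⟩

end Cfsg.Agent.Lib.Helper28.M24Enum
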