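import Mathlib
import Cfsg.Prelude.Def_Sporadic_a
import Cfsg.Agent.Lib.Helper28.M24Trans
import Cfsg.Agent.Lib.Helper28.M24Six
import Cfsg.Agent.Lib.Helper28.M24Enum

set_option autoImplicit false

namespace Cfsg.Agent.Lib.Helper28.M24Class

open Cfsg Cfsg.Agent.Lib.Helper3.Golay Cfsg.Agent.Lib.Helper3.Golay2
  Cfsg.Agent.Lib.Helper3.GolayM24 Cfsg.Agent.Lib.Helper28.M24Trans
  Cfsg.Agent.Lib.Helper28.M24Six Cfsg.Agent.Lib.Helper28.M24Enum
open scoped Pointwise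

noncomputable def prod7 (c : ℕ) : Equiv.Perm GolayPt :=
  P (U1.getD (dig c 0) 0) * P (U2.getD (dig c 1) 0) * P (U3.getD (dig c 2) 0) *
    P (U4.getD (dig c 3) 0) * P (U5.getD (dig c 4) 0) * P (U6.getD (dig c 5) 0) *
    P (U7.getD (dig c 6) 0)

def ev7 (c i : ℕ) : ℕ :=
  dig (U1.getD (dig c 0) 0) (dig (U2.getD (dig c 1) 0) (dig (U3.getD (dig c 2) 0)
    (dig (U4.getD (dig c 3) 0) (dig (U5.getD (dig c 4) 0) (dig (U6.getD (dig c 5) 0)
      (dig (U7.getD (dig c 6) 0) i))))))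

def ok7 (c : ℕ) : Bool :=
  Nat.blt (dig c 0) 24 && Nat.blt (dig c 1) 23 && (Nat.blt (dig c 2) 23 && Nat.ble 1 (dig c 2)) &&
  (Nat.blt (dig c 3) 23 && Nat.ble 2 (dig c 3)) && (Nat.blt (dig c 4) 23 && Nat.ble 3 (dig c 4)) &&
  decide (dig c 5 ∈ [5, 14, 17]) &&
  (Nat.blt (dig c 6) 23 && decide (dig c 6 ∉ [0, 1, 2, 3, 5, 14, 17]))

theorem lvl_vld {U K fixed : List ℕ} {b x : ℕ} (h : lvlB U K fixed b x = true) :
    vldB (U.getD x 0) = true := by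
  unfold lvlB at h
  simp only [Bool.and_eq_true] at h
  exact h.1.1.1.1

theorem ok7_spec {c : ℕ} (h : ok7 c = true) :
    (vldB (U1.getD (dig c 0) 0) = true ∧ P (U1.getD (dig c 0) 0) ∈ M24) ∧
    (vldB (U2.getD (dig c 1) 0) = true ∧ P (U2.getD (dig c 1) 0) ∈ M24) ∧
    (vldB (U3.getD (dig c 2) 0) = true ∧ P (U3.getD (dig c 2) 0) ∈ M24) ∧
    (vldB (U4.getD (dig c 3) 0) = true ∧ P (U4.getD (dig c 3) 0) ∈ M24) ∧
    (vldB (U5.getD (dig c 4) 0) = true ∧ P (U5.getD (dig c 4) 0) ∈ M24) ∧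
    (vldB (U6.getD (dig c 5) 0) = true ∧ P (U6.getD (dig c 5) 0) ∈ M24) ∧
    (vldB (U7.getD (dig c 6) 0) = true ∧ P (U7.getD (dig c 6) 0) ∈ M24) := by
  unfold ok7 at h
  simp only [Bool.and_eq_true, Nat.blt_eq, Nat.ble_eq, decide_eq_true_eq] at h
  obtain ⟨⟨⟨⟨⟨⟨h1, h2⟩, h3⟩, h4⟩, h5⟩, h6⟩, h7⟩ := h
  exact ⟨⟨lvl_vld (L1chk _ h1), (lvl_sound (L1chk _ h1)).1⟩,
    ⟨lvl_vld (L2chk _ h2), (lvl_sound (L2chk _ h2)).1⟩,
    ⟨lvl_vld (L3chk _ h3.1 h3.2), (lvl_sound (L3chk _ h3.1 h3.2)).1⟩,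
    ⟨lvl_vld (L4chk _ h4.1 h4.2), (lvl_sound (L4chk _ h4.1 h4.2)).1⟩,
    ⟨lvl_vld (L5chk _ h5.1 h5.2), (lvl_sound (L5chk _ h5.1 h5.2)).1⟩,
    ⟨lvl_vld (L6chk _ h6), (lvl_sound (L6chk _ h6)).1⟩,
    ⟨lvl_vld (L7chk _ h7.1 h7.2), (lvl_sound (L7chk _ h7.1 h7.2)).1⟩⟩

theorem prod7_mem {c : ℕ} (h : ok7 c = true) : prod7 c ∈ M24 := by
  obtain ⟨h1, h2, h3, h4, h5, h6, h7⟩ := ok7_spec h
  unfold prod7
  exact M24.mul_mem (M24.mul_mem (M24.mul_mem (M24.mul_mem (M24.mul_mem (M24.mul_mem h1.2 h2.2)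
    h3.2) h4.2) h5.2) h6.2) h7.2

theorem prod7_idx {c : ℕ} (h : ok7 c = true) : IsIdxFn (prod7 c) (ev7 c) := by
  obtain ⟨h1, h2, h3, h4, h5, h6, h7⟩ := ok7_spec h
  unfold prod7
  have h := isIdx_mul (isIdx_mul (isIdx_mul (isIdx_mul (isIdx_mul (isIdx_mul (isIdx_P h1.1)
    (isIdx_P h2.1)) (isIdx_P h3.1)) (isIdx_P h4.1)) (isIdx_P h5.1)) (isIdx_P h6.1)) (isIdx_P h7.1)
  exact h

def B7 : List ℕ := [4, 6, 7, 8, 9, 10, 11, 12, 13, 15, 16, 18, 19, 20, 21, 22]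

theorem mem_B7 : ∀ b < 23, b ∉ [0, 1, 2, 3, 5, 14, 17] → b ∈ B7 := by decide

def ci (a b : ℕ) : ℕ := [5, 14, 17].idxOf a * 16 + B7.idxOf b

def cand (c a b : ℕ) (i : ℕ) : ℕ := ev7 c (dig (U6.getD a 0) (dig (U7.getD b 0) i))

def all48 (f : ℕ → ℕ → Bool) : Bool := [5, 14, 17].all fun a => B7.all fun b => f a b

theorem all48_spec {f : ℕ → ℕ → Bool} (h : all48 f = true) {a b : ℕ} (ha : a ∈ [5, 14, 17])
    (hb : b ∈ B7) : f a b = true := by
  unfold all48 at h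
  rw [List.all_eq_true] at h
  have h1 := h a ha
  rw [List.all_eq_true] at h1
  exact h1 b hb

theorem enum48 {g : Equiv.Perm GolayPt} (hg : g ∈ M24) (c : ℕ) (hc : ok7 c = true)
    (h : ∀ f ∈ [3, 2, 1, 0, 23], idx (g (pt f)) = ev7 c f) :
    ∃ a ∈ [5, 14, 17], ∃ b ∈ B7, IsIdxFn g (cand c a b) := by
  have hw := prod7_idx hc
  obtain ⟨a, ha, b, hb1, hb2, v6, v7, e⟩ := coset48 hg (prod7_mem hc) (by
    intro f hf
    apply idx_injective
    rw [h f hf, hw, idx_pt f (by revert f; decide)])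
  refine ⟨a, ha, b, mem_B7 b hb1 hb2, ?_⟩
  rw [e]
  have h := isIdx_mul (isIdx_mul hw (isIdx_P v6)) (isIdx_P v7)
  exact h

def allI (c : ℕ → Bool) : Bool := (List.range 24).all c

theorem allI_iff {c : ℕ → Bool} : allI c = true ↔ ∀ i < 24, c i = true := by
  unfold allI
  rw [List.all_eq_true]
  simp only [List.mem_range]

def isId (F : ℕ → ℕ) : Bool := allI fun i => Nat.beq (F i) i

def isInv (F : ℕ → ℕ) : Bool := allI fun i => Nat.beq (F (F i)) i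

def isOrd3 (F : ℕ → ℕ) : Bool := allI fun i => Nat.beq (F (F (F i))) i

def hasFix (F : ℕ → ℕ) : Bool := (List.range 24).any fun i => Nat.beq (F i) i

theorem isId_of {g : Equiv.Perm GolayPt} {F : ℕ → ℕ} (hF : IsIdxFn g F) (h : isId F = true) :
    g = 1 := by
  unfold isId at h
  rw [allI_iff] at h
  exact isIdx_eq hF isIdx_one (fun i hi => Nat.eq_of_beq_eq_true (h i hi))

theorem isInv_of {g : Equiv.Perm GolayPt} {F : ℕ → ℕ} (hF : IsIdxFn g F) (h : g * g = 1) :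
    isInv F = true := by
  unfold isInv
  rw [allI_iff]
  intro i hi
  have e : F (F i) = i := isIdx_congr (isIdx_mul hF hF) isIdx_one h i hi
  rw [e]
  exact Nat.beq_refl _

theorem isOrd3_of {g : Equiv.Perm GolayPt} {F : ℕ → ℕ} (hF : IsIdxFn g F) (h : g * g * g = 1) :
    isOrd3 F = true := by
  unfold isOrd3
  rw [allI_iff]
  intro i hi
  have e : F (F (F i)) = i := isIdx_congr (isIdx_mul (isIdx_mul hF hF) hF) isIdx_one h i hi
  rw [e]
  exact Nat.beq_refl _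

theorem hasFix_of {g : Equiv.Perm GolayPt} {F : ℕ → ℕ} (hF : IsIdxFn g F) (h : hasFix F = true) :
    ∃ p, g p = p := by
  unfold hasFix at h
  rw [List.any_eq_true] at h
  obtain ⟨i, hi, e⟩ := h
  rw [List.mem_range] at hi
  refine ⟨pt i, ?_⟩
  rw [isIdx_fix hF, idx_pt i hi]
  exact Nat.eq_of_beq_eq_true e

def outFix (F : ℕ → ℕ) : Bool :=
  (List.range 24).any fun i => Nat.beq (F i) i && !(Nat.testBit (cw 2503) i)

theorem outFix_spec {F : ℕ → ℕ} (h : outFix F = true) :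
    ∃ i < 24, F i = i ∧ (cw 2503).testBit i = false := by
  unfold outFix at h
  rw [List.any_eq_true] at h
  obtain ⟨i, hi, e⟩ := h
  rw [List.mem_range] at hi
  rw [Bool.and_eq_true, Bool.not_eq_true'] at e
  exact ⟨i, hi, Nat.eq_of_beq_eq_true e.1, e.2⟩

def conjB (cc : ℕ) (F : ℕ → ℕ) (T : ℕ) : Bool :=
  ok7 cc && allI fun i => Nat.beq (ev7 cc (F i)) (dig T (ev7 cc i))

theorem conj_sound {g : Equiv.Perm GolayPt} {F : ℕ → ℕ} (hF : IsIdxFn g F) {cc T : ℕ}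
    (hT : vldB T = true) (h : conjB cc F T = true) :
    prod7 cc ∈ M24 ∧ prod7 cc * g * (prod7 cc)⁻¹ = P T := by
  unfold conjB at h
  rw [Bool.and_eq_true, allI_iff] at h
  refine ⟨prod7_mem h.1, ?_⟩
  have e : prod7 cc * g = P T * prod7 cc :=
    isIdx_eq (isIdx_mul (prod7_idx h.1) hF) (isIdx_mul (isIdx_P hT) (prod7_idx h.1))
      (fun i hi => Nat.eq_of_beq_eq_true (h.2 i hi))
  rw [e]
  group

theorem conj_trans {g h c T : Equiv.Perm GolayPt} (e : c * (h * g * h⁻¹) * c⁻¹ = T) :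
    (c * h) * g * (c * h)⁻¹ = T := by
  rw [← e]
  group

theorem conj_mem {g h : Equiv.Perm GolayPt} (hg : g ∈ M24) (hh : h ∈ M24) : h * g * h⁻¹ ∈ M24 :=
  M24.mul_mem (M24.mul_mem hh hg) (M24.inv_mem hh)

theorem conj_apply {g h : Equiv.Perm GolayPt} {x y : GolayPt} {i j : ℕ} (hx : h x = pt i)
    (hy : h y = pt j) (e : g x = y) : (h * g * h⁻¹) (pt i) = pt j := by
  rw [Equiv.Perm.mul_apply, Equiv.Perm.mul_apply, ← hx, ← Equiv.Perm.mul_apply h⁻¹ h,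
    inv_mul_cancel, Equiv.Perm.one_apply, e, hy]

theorem conj_sq {g h : Equiv.Perm GolayPt} (e : g * g = 1) :
    (h * g * h⁻¹) * (h * g * h⁻¹) = 1 := by
  have : (h * g * h⁻¹) * (h * g * h⁻¹) = h * (g * g) * h⁻¹ := by group
  rw [this, e]
  group

theorem conj_cube {g h : Equiv.Perm GolayPt} (e : g * g * g = 1) :
    (h * g * h⁻¹) * (h * g * h⁻¹) * (h * g * h⁻¹) = 1 := by
  have : (h * g * h⁻¹) * (h * g * h⁻¹) * (h * g * h⁻¹) = h * (g * g * g) * h⁻¹ := by group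
  rw [this, e]
  group

theorem conj_ne_one {g h : Equiv.Perm GolayPt} (e : g ≠ 1) : h * g * h⁻¹ ≠ 1 := by
  intro h1
  apply e
  have : g = h⁻¹ * (h * g * h⁻¹) * h := by group
  rw [this, h1]
  group

def ID7 : ℕ := 4465951767

def T2A : ℕ := 965128854020860192151391391390468128

def KT2A : ℕ := 518353835836115198883998637499474646161556746751381135416088505695529731503973698

def X3A : ℕ := 976531636853126291160407323722221600

def KX3A : ℕ := 3445191788354718938862874488544416044232633496712829132703442414011895013398497204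

def X3B : ℕ := 22575204043597328606232684349492961

def KX3B : ℕ := 68818100910371311375489532940477618756335579830549356560756703875555864463392041193

def T2B : ℕ := 18954756559157013724352018331599959

def KT2B : ℕ := 110621443511756454083400750598716770053495614728094760331114841800911022242878111298

def C2A : List ℕ := [0, 4880451234, 4785198565, 4471369731, 4773359619, 4483208677, 4883793441, 4885861861, 4889052849, 4779787938, 4486399665, 4477798050, 4783130145, 4481140257, 4874022915, 4788389553, 0, 0, 0, 0, 0, 0, 0, 0, 0, 0, 0, 0, 0, 0, 0, 0, 0, 0, 0, 0, 0, 0, 0, 0, 0, 0, 0, 0, 0, 0, 0, 0]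

def WC2 : ℕ := 4478916663

def WC3 : List ℕ := [0, 0, 0, 4485481527, 4481287223, 4470801463, 4480238647, 4467655735, 4482335799, 4472898615, 4479190071, 4476044343, 4474995767, 4468704311, 4469752887, 4484432951, 4466607159, 4483384375, 4471850039, 4477092919, 4473947191, 4486530103, 4478141495, 0]

def WC3B : List ℕ := [0, 0, 0, 0, 4476896960, 4481091264, 4485285568, 4478994112, 4483188416, 4472702656, 4470605504, 4467459776, 4474799808, 4469556928, 4477945536, 4482139840, 4473751232, 4468508352, 4484236992, 4486334144, 4480042688, 4475848384, 4471654080, 0]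

def WC2B : List ℕ := [0, 0, 0, 0, 4470811648, 4478151680, 4477103104, 4480248832, 4473957376, 4475005952, 4476054528, 4484443136, 4479200256, 4485491712, 4468714496, 4471860224, 4483394560, 4466617344, 4472908800, 4467665920, 4482345984, 4486540288, 4469763072, 0]

def C3B : List (List ℕ) := [[],
  [],
  [],
  [],
  [0, 0, 0, 17367925783, 0, 0, 0, 0, 0, 0, 0, 0, 0, 0, 0, 0, 0, 0, 0, 0, 0, 0, 0, 0, 0, 0, 0, 0, 0, 0, 4480992960, 0, 23808640299, 0, 0, 0, 0, 0, 0, 0, 0, 0, 0, 0, 0, 0, 0, 0],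
  [],
  [0, 0, 0, 0, 0, 0, 0, 0, 0, 6628476608, 0, 0, 0, 0, 0, 0, 0, 0, 0, 0, 0, 0, 0, 0, 0, 0, 0, 0, 0, 0, 0, 7702512939, 0, 0, 0, 0, 0, 0, 0, 0, 0, 0, 0, 0, 0, 0, 22736634903, 0],
  [0, 0, 0, 0, 0, 0, 0, 7702218432, 0, 0, 0, 0, 0, 0, 0, 0, 0, 0, 0, 6628771115, 0, 0, 0, 0, 0, 0, 0, 0, 0, 0, 0, 0, 0, 0, 0, 0, 0, 0, 0, 0, 0, 0, 0, 20589151255, 0, 0, 0, 0],
  [0, 0, 0, 0, 0, 0, 0, 19513673003, 0, 0, 0, 0, 0, 0, 0, 0, 0, 0, 0, 0, 0, 0, 0, 0, 0, 0, 0, 0, 0, 0, 0, 13072958487, 0, 0, 0, 0, 0, 0, 0, 0, 0, 8775960256, 0, 0, 0, 0, 0, 0],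
  [0, 0, 0, 0, 0, 0, 0, 10923738411, 0, 0, 0, 0, 0, 0, 0, 0, 0, 0, 0, 0, 0, 21662893079, 0, 0, 0, 0, 0, 0, 0, 0, 0, 0, 0, 0, 9849702080, 0, 0, 0, 0, 0, 0, 0, 0, 0, 0, 0, 0, 0],
  [0, 0, 0, 0, 0, 0, 0, 0, 0, 0, 9849996587, 0, 0, 0, 0, 0, 0, 0, 0, 0, 0, 0, 0, 0, 16294183959, 0, 0, 0, 0, 0, 0, 0, 10923443904, 0, 0, 0, 0, 0, 0, 0, 0, 0, 0, 0, 0, 0, 0, 0],
  [19515409431, 0, 0, 0, 0, 0, 0, 0, 0, 0, 0, 0, 0, 0, 0, 0, 0, 0, 0, 0, 0, 11997185728, 0, 0, 0, 0, 0, 0, 0, 0, 0, 0, 0, 0, 0, 0, 0, 0, 0, 13071222059, 0, 0, 0, 0, 0, 0, 0, 0],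
  [0, 0, 0, 8777991191, 0, 0, 0, 0, 0, 0, 0, 0, 0, 0, 0, 0, 0, 0, 0, 0, 0, 0, 0, 0, 13070927552, 0, 0, 0, 0, 0, 0, 0, 0, 0, 0, 0, 0, 11997480235, 0, 0, 0, 0, 0, 0, 0, 0, 0, 0],
  [0, 0, 0, 0, 0, 0, 0, 0, 0, 0, 0, 0, 0, 17366189355, 0, 0, 0, 0, 0, 0, 23810376727, 0, 0, 0, 0, 0, 0, 0, 0, 0, 0, 0, 0, 0, 0, 0, 0, 14144669376, 0, 0, 0, 0, 0, 0, 0, 0, 0, 0],
  [],
  [0, 0, 0, 0, 0, 0, 0, 0, 0, 21661156651, 0, 0, 0, 0, 0, 0, 0, 0, 10925474839, 0, 0, 0, 0, 0, 0, 0, 0, 0, 0, 0, 0, 0, 0, 0, 0, 0, 0, 0, 16292153024, 0, 0, 0, 0, 0, 0, 0, 0, 0],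
  [0, 0, 0, 0, 0, 0, 0, 0, 0, 0, 0, 0, 0, 0, 14144963883, 0, 0, 0, 0, 0, 0, 0, 0, 0, 4483023895, 0, 0, 0, 0, 0, 0, 0, 0, 0, 0, 0, 0, 0, 0, 0, 0, 0, 0, 17365894848, 0, 0, 0, 0],
  [],
  [0, 0, 0, 0, 0, 0, 0, 0, 0, 0, 0, 0, 0, 0, 0, 8776254763, 0, 0, 0, 0, 0, 11999216663, 0, 0, 0, 0, 0, 0, 0, 0, 0, 0, 0, 0, 0, 0, 0, 0, 0, 0, 0, 0, 0, 19513378496, 0, 0, 0, 0],
  [0, 0, 0, 0, 0, 0, 0, 0, 0, 0, 0, 0, 0, 0, 0, 7704249367, 0, 0, 0, 0, 0, 0, 0, 0, 0, 0, 0, 0, 20587120320, 0, 0, 0, 0, 0, 0, 0, 0, 22734898475, 0, 0, 0, 0, 0, 0, 0, 0, 0, 0],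
  [0, 0, 0, 0, 0, 0, 0, 16292447531, 0, 0, 0, 0, 0, 0, 0, 0, 0, 0, 0, 0, 0, 0, 0, 0, 0, 0, 0, 0, 0, 9851733015, 0, 0, 0, 21660862144, 0, 0, 0, 0, 0, 0, 0, 0, 0, 0, 0, 0, 0, 0],
  [0, 0, 0, 0, 0, 0, 0, 6630507543, 0, 0, 0, 0, 0, 0, 0, 0, 0, 0, 0, 0, 0, 0, 0, 0, 0, 0, 0, 22734603968, 0, 0, 0, 0, 0, 0, 0, 0, 0, 0, 20587414827, 0, 0, 0, 0, 0, 0, 0, 0, 0],
  [0, 0, 0, 0, 0, 0, 0, 0, 0, 0, 14146700311, 0, 0, 0, 0, 0, 0, 0, 0, 0, 0, 0, 23808345792, 0, 0, 0, 0, 0, 0, 0, 0, 0, 0, 0, 0, 0, 0, 0, 0, 0, 0, 0, 0, 0, 0, 0, 4481287467, 0]]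

def C2B : List (List ℕ) := [[],
  [],
  [],
  [],
  [0, 0, 0, 0, 14432095465, 0, 0, 0, 0, 0, 0, 0, 0, 0, 0, 0, 0, 0, 0, 0, 20572556521, 0, 0, 0, 0, 0, 0, 0, 0, 0, 0, 0, 0, 0, 0, 0, 13459016937, 0, 0, 0, 0, 0, 0, 0, 0, 0, 0, 0],
  [0, 4788362947, 0, 0, 4468706304, 4885582871, 0, 0, 0, 6616189952, 0, 0, 6935846595, 7033066519, 0, 0, 0, 0, 0, 0, 0, 0, 0, 0, 0, 0, 0, 0, 0, 0, 0, 0, 0, 0, 0, 0, 0, 0, 0, 0, 0, 0, 0, 0, 0, 0, 0, 0],
  [0, 0, 0, 0, 14130105577, 0, 0, 0, 0, 0, 0, 0, 0, 0, 0, 0, 0, 0, 0, 0, 0, 0, 0, 0, 10237791465, 0, 0, 0, 0, 0, 0, 0, 0, 0, 0, 0, 0, 0, 0, 0, 0, 0, 0, 0, 20874546409, 0, 0, 0],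
  [23022030057, 0, 0, 0, 0, 0, 0, 0, 0, 0, 0, 0, 0, 0, 0, 0, 0, 0, 0, 0, 0, 0, 0, 0, 0, 0, 0, 0, 17351331049, 0, 0, 0, 0, 0, 0, 0, 0, 0, 0, 0, 0, 0, 0, 0, 0, 11311533289, 0, 0],
  [0, 0, 0, 0, 0, 12284611817, 0, 0, 0, 0, 0, 0, 0, 0, 0, 0, 0, 0, 0, 0, 0, 0, 10908880105, 0, 0, 0, 0, 0, 0, 0, 0, 0, 0, 0, 0, 0, 0, 0, 0, 0, 0, 0, 17753984233, 0, 0, 0, 0, 0],
  [0, 0, 0, 0, 19498814697, 0, 0, 0, 0, 0, 0, 0, 0, 0, 0, 0, 0, 0, 0, 0, 0, 0, 0, 0, 0, 0, 0, 0, 0, 0, 7016565993, 0, 0, 0, 0, 16579579113, 0, 0, 0, 0, 0, 0, 0, 0, 0, 0, 0, 0],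
  [0, 0, 0, 0, 0, 0, 0, 0, 0, 0, 0, 0, 0, 0, 0, 8761396457, 0, 0, 0, 0, 0, 0, 0, 0, 0, 0, 0, 0, 0, 0, 0, 8090307817, 0, 0, 0, 0, 0, 0, 0, 0, 0, 0, 0, 0, 0, 0, 0, 21948288233],
  [9063386345, 0, 0, 0, 0, 0, 0, 0, 0, 0, 0, 0, 0, 0, 0, 0, 0, 0, 0, 0, 0, 21646298345, 0, 0, 0, 0, 0, 0, 0, 0, 0, 0, 0, 0, 0, 0, 0, 0, 0, 24196435177, 0, 0, 0, 0, 0, 0, 0, 0],
  [0, 4869082345, 0, 0, 0, 0, 0, 0, 0, 0, 0, 0, 0, 0, 0, 0, 0, 19800804585, 0, 0, 0, 0, 0, 0, 0, 0, 0, 0, 0, 0, 0, 0, 0, 16277589225, 0, 0, 0, 0, 0, 0, 0, 0, 0, 0, 0, 0, 0, 0],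
  [0, 0, 0, 0, 0, 0, 19901467881, 0, 0, 0, 0, 0, 0, 0, 0, 0, 0, 0, 4768419049, 0, 0, 0, 0, 0, 0, 0, 0, 0, 0, 0, 0, 0, 0, 0, 0, 0, 0, 0, 0, 0, 6613912809, 0, 0, 0, 0, 0, 0, 0],
  [0, 0, 0, 0, 0, 0, 0, 0, 0, 0, 0, 0, 0, 0, 0, 0, 0, 0, 0, 9079886871, 4486373059, 8781340355, 4871359488, 9166326784, 0, 0, 0, 4784919575, 0, 0, 0, 0, 0, 0, 0, 0, 0, 0, 0, 0, 0, 0, 0, 0, 0, 0, 0, 0],
  [0, 0, 0, 0, 0, 0, 0, 0, 0, 0, 0, 0, 0, 13056363753, 0, 0, 0, 0, 0, 0, 0, 0, 0, 0, 0, 0, 0, 0, 0, 0, 20975209705, 0, 0, 0, 0, 0, 0, 0, 0, 0, 0, 0, 0, 10137128169, 0, 0, 0, 0],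
  [0, 0, 0, 0, 0, 0, 0, 0, 24095771881, 0, 0, 0, 0, 0, 0, 0, 0, 0, 0, 0, 0, 0, 0, 0, 0, 0, 0, 7687654633, 0, 0, 0, 0, 0, 0, 0, 0, 0, 0, 0, 0, 0, 0, 0, 0, 0, 0, 9164049641, 0],
  [0, 4889026243, 0, 4482929687, 0, 0, 4770696192, 6630413335, 0, 0, 0, 6918179840, 0, 0, 7036509891, 0, 0, 0, 0, 0, 0, 0, 0, 0, 0, 0, 0, 0, 0, 0, 0, 0, 0, 0, 0, 0, 0, 0, 0, 0, 0, 0, 0, 0, 0, 0, 0, 0],
  [0, 0, 0, 0, 13358353641, 0, 0, 0, 0, 0, 0, 0, 0, 0, 0, 0, 0, 0, 0, 0, 0, 0, 0, 9835138281, 0, 0, 0, 0, 0, 0, 0, 0, 0, 0, 0, 0, 0, 0, 0, 0, 14532758761, 0, 0, 0, 0, 0, 0, 0],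
  [0, 0, 0, 0, 4466429161, 0, 0, 0, 0, 0, 0, 0, 0, 0, 0, 0, 0, 0, 0, 0, 0, 0, 0, 0, 0, 0, 16680242409, 0, 0, 0, 0, 0, 0, 0, 6915902697, 0, 0, 0, 0, 0, 0, 0, 0, 0, 0, 0, 0, 0],
  [0, 0, 0, 0, 0, 11210869993, 0, 0, 0, 0, 0, 0, 0, 0, 0, 0, 0, 0, 0, 0, 0, 0, 0, 0, 0, 0, 0, 0, 0, 0, 11982621929, 0, 0, 0, 0, 0, 0, 0, 23122693353, 0, 0, 0, 0, 0, 0, 0, 0, 0],
  [0, 0, 0, 0, 0, 0, 0, 0, 0, 0, 23793781993, 0, 0, 0, 0, 0, 0, 0, 0, 0, 0, 0, 0, 0, 0, 0, 0, 0, 22048951529, 0, 0, 0, 0, 0, 0, 0, 0, 0, 0, 0, 0, 7989644521, 0, 0, 0, 0, 0, 0],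
  [0, 0, 0, 0, 0, 0, 0, 0, 0, 17653320937, 0, 0, 0, 0, 0, 0, 0, 0, 0, 0, 22720040169, 0, 0, 0, 0, 0, 0, 0, 0, 0, 0, 0, 0, 0, 0, 0, 0, 0, 0, 0, 0, 0, 0, 0, 0, 12385275113, 0, 0]]

theorem T2A_vld : vldB T2A = true := by decide +kernel

theorem T2A_mem : P T2A ∈ M24 := P_mem T2A_vld (K := KT2A) (by decide +kernel)

theorem X3A_vld : vldB X3A = true := by decide +kernel

theorem X3A_mem : P X3A ∈ M24 := P_mem X3A_vld (K := KX3A) (by decide +kernel)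

theorem X3B_vld : vldB X3B = true := by decide +kernel

theorem X3B_mem : P X3B ∈ M24 := P_mem X3B_vld (K := KX3B) (by decide +kernel)

theorem T2B_vld : vldB T2B = true := by decide +kernel

theorem T2B_mem : P T2B ∈ M24 := P_mem T2B_vld (K := KT2B) (by decide +kernel)

theorem ID7_ok : ok7 ID7 = true := by decide +kernel

theorem ID7_ev : ∀ i < 24, ev7 ID7 i = i := by decide +kernel

theorem chk2A : all48 (fun a b => !(isInv (cand ID7 a b)) || isId (cand ID7 a b) ||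
    (Nat.beq (fixMask (cand ID7 a b)) (cw 2503) &&
      conjB (C2A.getD (ci a b) 0) (cand ID7 a b) T2A)) = true := by
  decide +kernel

theorem WC2_okB : (ok7 WC2 && Nat.beq (ev7 WC2 23) 23 && Nat.beq (ev7 WC2 0) 1 &&
    Nat.beq (ev7 WC2 1) 0 && Nat.beq (ev7 WC2 2) 3 && Nat.beq (ev7 WC2 3) 2) = true := by
  decide +kernel

theorem WC2_ok : ok7 WC2 = true ∧ ev7 WC2 23 = 23 ∧ ev7 WC2 0 = 1 ∧ ev7 WC2 1 = 0 ∧
    ev7 WC2 2 = 3 ∧ ev7 WC2 3 = 2 := by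
  have h := WC2_okB
  simp only [Bool.and_eq_true] at h
  obtain ⟨⟨⟨⟨⟨h1, h2⟩, h3⟩, h4⟩, h5⟩, h6⟩ := h
  exact ⟨h1, Nat.eq_of_beq_eq_true h2, Nat.eq_of_beq_eq_true h3, Nat.eq_of_beq_eq_true h4,
    Nat.eq_of_beq_eq_true h5, Nat.eq_of_beq_eq_true h6⟩

theorem chk2A' : all48 (fun a b => !(isInv (cand WC2 a b)) ||
    Nat.ble 5 (pc (fixMask (cand WC2 a b)))) = true := by
  decide +kernel

theorem chk3A : all48 (fun a b => !(isOrd3 (cand ID7 a b)) || isId (cand ID7 a b) ||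
    (Nat.beq (pc (fixMask (cand ID7 a b))) 6 && outFix (cand ID7 a b))) = true := by
  decide +kernel

theorem chk3A4 : all48 (fun a b => !(Nat.beq (cand ID7 a b 4) 4) || isId (cand ID7 a b) ||
    (allI fun i => Nat.beq (cand ID7 a b i) (dig X3A i)) ||
    (allI fun i => Nat.beq (cand ID7 a b i) (dig (invT X3A) i))) = true := by
  decide +kernel

theorem WC3_ok : ∀ z < 23, 3 ≤ z → ok7 (WC3.getD z 0) = true ∧ ev7 (WC3.getD z 0) 23 = 23 ∧
    ev7 (WC3.getD z 0) 0 = 1 ∧ ev7 (WC3.getD z 0) 1 = 2 ∧ ev7 (WC3.getD z 0) 2 = 0 ∧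
    ev7 (WC3.getD z 0) 3 = z := by
  decide +kernel

theorem chk3A' : ∀ z < 23, 3 ≤ z → all48 (fun a b => !(isOrd3 (cand (WC3.getD z 0) a b)) ||
    Nat.ble 5 (pc (fixMask (cand (WC3.getD z 0) a b)))) = true := by
  decide +kernel

theorem WC3B_ok : ∀ z < 23, 4 ≤ z → ok7 (WC3B.getD z 0) = true ∧ ev7 (WC3B.getD z 0) 23 = 0 ∧
    ev7 (WC3B.getD z 0) 0 = 1 ∧ ev7 (WC3B.getD z 0) 1 = 23 ∧ ev7 (WC3B.getD z 0) 2 = 3 ∧
    ev7 (WC3B.getD z 0) 3 = z := by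
  decide +kernel

theorem chk3B : ∀ z < 23, 4 ≤ z → all48 (fun a b => !(isOrd3 (cand (WC3B.getD z 0) a b)) ||
    hasFix (cand (WC3B.getD z 0) a b) ||
    conjB ((C3B.getD z []).getD (ci a b) 0) (cand (WC3B.getD z 0) a b) X3B) = true := by
  decide +kernel

theorem WC2B_ok : ∀ z < 23, 4 ≤ z → ok7 (WC2B.getD z 0) = true ∧ ev7 (WC2B.getD z 0) 23 = 0 ∧
    ev7 (WC2B.getD z 0) 0 = 23 ∧ ev7 (WC2B.getD z 0) 1 = 2 ∧ ev7 (WC2B.getD z 0) 2 = 1 ∧
    ev7 (WC2B.getD z 0) 3 = z := by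
  decide +kernel

theorem chk2B : ∀ z < 23, 4 ≤ z → all48 (fun a b => !(isInv (cand (WC2B.getD z 0) a b)) ||
    hasFix (cand (WC2B.getD z 0) a b) ||
    conjB ((C2B.getD z []).getD (ci a b) 0) (cand (WC2B.getD z 0) a b) T2B) = true := by
  decide +kernel

theorem fix5_conj {g : Equiv.Perm GolayPt} (h5 : 5 ≤ (fixF g).card) :
    ∃ h ∈ M24, ∀ f ∈ [3, 2, 1, 0, 23], (h * g * h⁻¹) (pt f) = pt f := by
  obtain ⟨x₁, x₂, x₃, x₄, x₅, hnd, m1, m2, m3, m4, m5⟩ := take5 _ h5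
  rw [mem_fixF] at m1 m2 m3 m4 m5
  obtain ⟨h, hh, e1, e2, e3, e4, e5⟩ := trans5 x₁ x₂ x₃ x₄ x₅ hnd
  refine ⟨h, hh, ?_⟩
  intro f hf
  simp only [List.mem_cons, List.not_mem_nil, or_false] at hf
  rcases hf with rfl | rfl | rfl | rfl | rfl
  · exact conj_apply e5 e5 m5
  · exact conj_apply e4 e4 m4
  · exact conj_apply e3 e3 m3
  · exact conj_apply e2 e2 m2
  · exact conj_apply e1 e1 m1

theorem enumID {g : Equiv.Perm GolayPt} (hg : g ∈ M24)
    (h : ∀ f ∈ [3, 2, 1, 0, 23], g (pt f) = pt f) :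
    ∃ a ∈ [5, 14, 17], ∃ b ∈ B7, IsIdxFn g (cand ID7 a b) := by
  apply enum48 hg ID7 ID7_ok
  intro f hf
  have hf24 : f < 24 := by revert f; decide
  rw [h f hf, idx_pt f hf24, ID7_ev f hf24]

theorem enumW {g : Equiv.Perm GolayPt} (hg : g ∈ M24) (c : ℕ) (hc : ok7 c = true)
    {i₁ i₂ i₃ i₄ i₅ : ℕ} (hi : i₁ < 24 ∧ i₂ < 24 ∧ i₃ < 24 ∧ i₄ < 24 ∧ i₅ < 24)
    (h1 : g (pt 23) = pt i₁) (h2 : g (pt 0) = pt i₂) (h3 : g (pt 1) = pt i₃)
    (h4 : g (pt 2) = pt i₄) (h5 : g (pt 3) = pt i₅)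
    (e1 : ev7 c 23 = i₁) (e2 : ev7 c 0 = i₂) (e3 : ev7 c 1 = i₃) (e4 : ev7 c 2 = i₄)
    (e5 : ev7 c 3 = i₅) :
    ∃ a ∈ [5, 14, 17], ∃ b ∈ B7, IsIdxFn g (cand c a b) := by
  apply enum48 hg c hc
  intro f hf
  simp only [List.mem_cons, List.not_mem_nil, or_false] at hf
  rcases hf with rfl | rfl | rfl | rfl | rfl
  · rw [h5, idx_pt _ hi.2.2.2.2, e5]
  · rw [h4, idx_pt _ hi.2.2.2.1, e4]
  · rw [h3, idx_pt _ hi.2.2.1, e3]
  · rw [h2, idx_pt _ hi.2.1, e2]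
  · rw [h1, idx_pt _ hi.1, e1]

theorem card_fixF_conj (g h : Equiv.Perm GolayPt) : (fixF (h * g * h⁻¹)).card = (fixF g).card := by
  rw [fixF_conj, Finset.card_smul_finset]

theorem exists_moved {g : Equiv.Perm GolayPt} (h1 : g ≠ 1) : ∃ b, g b ≠ b := by
  by_contra hall
  exact h1 (Equiv.ext fun x => not_not.mp (not_exists.mp hall x))

theorem exists_notMem (s : Finset GolayPt) (hs : s.card < 24) : ∃ c, c ∉ s := by
  obtain ⟨c, -, hc⟩ := Finset.exists_mem_notMem_of_card_lt_card (s := s) (t := Finset.univ) (by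
    rw [Finset.card_univ, card_golayPt]
    exact hs)
  exact ⟨c, hc⟩

set_option maxHeartbeats 1000000 in
theorem inv_fix {g : Equiv.Perm GolayPt} (hg : g ∈ M24) (h2 : g * g = 1) (h1 : g ≠ 1)
    {a : GolayPt} (ha : g a = a) : fixF g ∈ octads ∧ ∃ c ∈ M24, c * g * c⁻¹ = P T2A := by
  have key : 5 ≤ (fixF g).card → fixF g ∈ octads ∧ ∃ c ∈ M24, c * g * c⁻¹ = P T2A := by
    intro h5
    obtain ⟨h, hh, hfix⟩ := fix5_conj h5
    obtain ⟨a', ha', b', hb', hF⟩ := enumID (conj_mem hg hh) hfix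
    have c1 := all48_spec chk2A ha' hb'
    rw [isInv_of hF (conj_sq h2)] at c1
    have c2 : isId (cand ID7 a' b') = false := by
      by_contra hc
      rw [Bool.not_eq_false] at hc
      exact conj_ne_one h1 (isId_of hF hc)
    rw [c2] at c1
    simp only [Bool.not_true, Bool.false_or, Bool.and_eq_true] at c1
    have e1 : fixF (h * g * h⁻¹) = supp 2503 := by
      rw [fixF_eq hF, Nat.eq_of_beq_eq_true c1.1]
      rfl
    obtain ⟨cm, ce⟩ := conj_sound hF T2A_vld c1.2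
    constructor
    · rw [fixF_conj] at e1
      have : fixF g = h⁻¹ • supp 2503 := by rw [← e1, inv_smul_smul]
      rw [this]
      exact smul_octad (M24.inv_mem hh) O0_octad
    · exact ⟨_, M24.mul_mem cm hh, conj_trans ce⟩
  by_cases h5 : 5 ≤ (fixF g).card
  · exact key h5
  · exfalso
    have hgg : ∀ x, g (g x) = x := fun x => by
      have := congrArg (fun f : Equiv.Perm GolayPt => f x) h2
      simpa using this
    obtain ⟨b, hb⟩ := exists_moved h1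
    obtain ⟨c, hc⟩ := exists_notMem (fixF g ∪ {b, g b}) (by
      have := Finset.card_union_le (fixF g) {b, g b}
      have := Finset.card_le_two (a := b) (b := g b)
      omega)
    simp only [Finset.mem_union, mem_fixF, Finset.mem_insert, Finset.mem_singleton, not_or] at hc
    obtain ⟨hc1, hc2, hc3⟩ := hc
    have hab : a ≠ b := fun e => hb (e ▸ ha)
    have hac : a ≠ c := fun e => hc1 (e ▸ ha)
    have hnd : [a, b, g b, c, g c].Nodup := by
      simp only [List.nodup_cons, List.mem_cons, List.not_mem_nil, or_false, not_or,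
        List.nodup_nil, and_true, not_false_eq_true]
      refine ⟨⟨hab, ?_, hac, ?_⟩, ⟨Ne.symm hb, Ne.symm hc2, ?_⟩, ⟨Ne.symm hc3, ?_⟩, Ne.symm hc1⟩
      · intro e
        apply hab
        have := congrArg g e
        rw [ha, hgg] at this
        exact this
      · intro e
        apply hac
        have := congrArg g e
        rw [ha, hgg] at this
        exact this
      · intro e
        apply hc3
        have := congrArg g e
        rw [hgg] at this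
        exact this.symm
      · intro e
        exact hc2 (g.injective e).symm
    obtain ⟨h, hh, e1, e2, e3, e4, e5⟩ := trans5 a b (g b) c (g c) hnd
    obtain ⟨w1, w2, w3, w4, w5, w6⟩ := WC2_ok
    obtain ⟨a', ha', b', hb', hF⟩ := enumW (conj_mem hg hh) WC2 w1
      (i₁ := 23) (i₂ := 1) (i₃ := 0) (i₄ := 3) (i₅ := 2) (by norm_num)
      (conj_apply e1 e1 ha) (conj_apply e2 e3 rfl) (conj_apply e3 e2 (hgg b))
      (conj_apply e4 e5 rfl) (conj_apply e5 e4 (hgg c)) w2 w3 w4 w5 w6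
    have c1 := all48_spec chk2A' ha' hb'
    rw [isInv_of hF (conj_sq h2)] at c1
    simp only [Bool.not_true, Bool.false_or] at c1
    have c2 := Nat.le_of_ble_eq_true c1
    rw [← card_fixF hF, card_fixF_conj] at c2
    exact h5 c2

set_option maxHeartbeats 1000000 in
theorem ord3_fix {g : Equiv.Perm GolayPt} (hg : g ∈ M24) (h3 : g * g * g = 1) (h1 : g ≠ 1)
    {a : GolayPt} (ha : g a = a) :
    (fixF g).card = 6 ∧ ¬ ∃ o ∈ octads, fixF g ⊆ o := by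
  have key : 5 ≤ (fixF g).card → (fixF g).card = 6 ∧ ¬ ∃ o ∈ octads, fixF g ⊆ o := by
    intro h5
    obtain ⟨h, hh, hfix⟩ := fix5_conj h5
    obtain ⟨a', ha', b', hb', hF⟩ := enumID (conj_mem hg hh) hfix
    have c1 := all48_spec chk3A ha' hb'
    rw [isOrd3_of hF (conj_cube h3)] at c1
    have c2 : isId (cand ID7 a' b') = false := by
      by_contra hc
      rw [Bool.not_eq_false] at hc
      exact conj_ne_one h1 (isId_of hF hc)
    rw [c2] at c1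
    simp only [Bool.not_true, Bool.false_or, Bool.and_eq_true] at c1
    obtain ⟨c3, c3'⟩ := c1
    obtain ⟨i, hi, c4, c5⟩ := outFix_spec c3'
    constructor
    · rw [← card_fixF_conj g h, card_fixF hF]
      exact Nat.eq_of_beq_eq_true c3
    · rintro ⟨o, ho, hsub⟩
      have hsub' : fixF (h * g * h⁻¹) ⊆ h • o := by
        rw [fixF_conj]
        exact Finset.smul_finset_subset_smul_finset hsub
      have e1 : h • o = supp 2503 := by
        apply oct_unique (smul_octad hh ho)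
        intro f hf
        apply hsub'
        rw [mem_fixF]
        exact hfix f (by
          simp only [List.mem_cons, List.not_mem_nil, or_false] at hf
          rcases hf with rfl | rfl | rfl | rfl | rfl <;> simp)
      have m : pt i ∈ fixF (h * g * h⁻¹) := by
        rw [mem_fixF, isIdx_fix hF, idx_pt i hi]
        exact c4
      have m2 := hsub' m
      rw [e1, mem_supp, idx_pt i hi, c5] at m2
      exact Bool.noConfusion m2
  by_cases h5 : 5 ≤ (fixF g).card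
  · exact key h5
  · exfalso
    have hggg : ∀ x, g (g (g x)) = x := fun x => by
      have := congrArg (fun f : Equiv.Perm GolayPt => f x) h3
      simpa using this
    obtain ⟨b, hb⟩ := exists_moved h1
    obtain ⟨c, hc⟩ := exists_notMem ({a, b, g b, g (g b)} : Finset GolayPt) (by
      have := Finset.card_le_four (a := a) (b := b) (c := g b) (d := g (g b))
      omega)
    simp only [Finset.mem_insert, Finset.mem_singleton, not_or] at hc
    obtain ⟨hc1, hc2, hc3, hc4⟩ := hc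
    have hab : a ≠ b := fun e => hb (e ▸ ha)
    have hgb : g (g b) ≠ g b := fun e => hb (g.injective e)
    have hggb : g (g b) ≠ b := by
      intro e
      apply hb
      have := congrArg g e
      rw [hggg] at this
      exact this.symm
    have hnd : [a, b, g b, g (g b), c].Nodup := by
      simp only [List.nodup_cons, List.mem_cons, List.not_mem_nil, or_false, not_or,
        List.nodup_nil, and_true, not_false_eq_true]
      refine ⟨⟨hab, ?_, ?_, Ne.symm hc1⟩, ⟨Ne.symm hb, Ne.symm hggb, Ne.symm hc2⟩,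
        ⟨Ne.symm hgb, Ne.symm hc3⟩, Ne.symm hc4⟩
      · intro e
        apply hab
        have := congrArg g e
        rw [ha] at this
        have := congrArg g this
        rw [ha, hggg] at this
        exact this
      · intro e
        apply hab
        have := congrArg g e
        rw [ha, hggg] at this
        exact this
    obtain ⟨h, hh, e1, e2, e3, e4, e5⟩ := trans5 a b (g b) (g (g b)) c hnd
    have hz1 := idx_lt (h (g c))
    have key2 : ∀ (x : GolayPt) (i : ℕ), x ≠ c → h x = pt i → idx (h (g c)) ≠ i ∨ g c = x := by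
      intro x i hx e
      by_cases hgc : g c = x
      · exact Or.inr hgc
      · left
        apply idx_ne
        rw [← e]
        exact fun e' => hgc (h.injective e')
    have n1 : idx (h (g c)) ≠ 23 := by
      rcases key2 a 23 (Ne.symm hc1) e1 with h' | h'
      · exact h'
      · exfalso
        apply hc1
        have := congrArg g h'
        rw [ha] at this
        have := congrArg g this
        rw [ha, hggg] at this
        exact this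
    have n2 : idx (h (g c)) ≠ 1 := by
      rcases key2 (g b) 1 (Ne.symm hc3) e3 with h' | h'
      · exact h'
      · exact absurd (g.injective h') hc2
    have n3 : idx (h (g c)) ≠ 2 := by
      rcases key2 (g (g b)) 2 (Ne.symm hc4) e4 with h' | h'
      · exact h'
      · exact absurd (g.injective h') hc3
    have n4 : idx (h (g c)) ≠ 0 := by
      rcases key2 b 0 (Ne.symm hc2) e2 with h' | h'
      · exact h'
      · exfalso
        apply hc4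
        have := congrArg g h'
        have := congrArg g this
        rw [hggg] at this
        exact this
    obtain ⟨w1, w2, w3, w4, w5, w6⟩ := WC3_ok (idx (h (g c))) (by omega) (by omega)
    obtain ⟨a', ha', b', hb', hF⟩ := enumW (conj_mem hg hh) _ w1
      (i₁ := 23) (i₂ := 1) (i₃ := 2) (i₄ := 0) (i₅ := idx (h (g c))) ⟨by norm_num, by norm_num,
        by norm_num, by norm_num, hz1⟩
      (conj_apply e1 e1 ha) (conj_apply e2 e3 rfl) (conj_apply e3 e4 rfl)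
      (conj_apply e4 e2 (hggg b)) (by
        have := conj_apply (g := g) e5 (pt_idx (h (g c))).symm rfl
        exact this) w2 w3 w4 w5 w6
    have c1 := all48_spec (chk3A' (idx (h (g c))) (by omega) (by omega)) ha' hb'
    rw [isOrd3_of hF (conj_cube h3)] at c1
    simp only [Bool.not_true, Bool.false_or] at c1
    have c2 := Nat.le_of_ble_eq_true c1
    rw [← card_fixF hF, card_fixF_conj] at c2
    exact h5 c2

theorem conj_fpf {g h : Equiv.Perm GolayPt} (hf : ∀ p, g p ≠ p) : ∀ p, (h * g * h⁻¹) p ≠ p := by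
  intro p e
  apply hf (h⁻¹ p)
  rw [Equiv.Perm.mul_apply, Equiv.Perm.mul_apply] at e
  exact (Equiv.Perm.inv_eq_iff_eq.mpr e.symm).symm

set_option maxHeartbeats 1000000 in
theorem ord3_conj_3A {g : Equiv.Perm GolayPt} (hg : g ∈ M24) (h3 : g * g * g = 1) (h1 : g ≠ 1)
    {a : GolayPt} (ha : g a = a) :
    ∃ c ∈ M24, c * g * c⁻¹ = P X3A ∨ c * g * c⁻¹ = (P X3A)⁻¹ := by
  obtain ⟨hcard, hno⟩ := ord3_fix hg h3 h1 ha
  obtain ⟨x₁, x₂, x₃, x₄, x₅, x₆, hl⟩ := list6 (fixF g).toList (by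
    rw [Finset.length_toList, hcard])
  have hnd : [x₁, x₂, x₃, x₄, x₅, x₆].Nodup := hl ▸ (fixF g).nodup_toList
  have hmem : ∀ b, b ∈ fixF g ↔ b ∈ [x₁, x₂, x₃, x₄, x₅, x₆] := by
    intro b
    rw [← hl, Finset.mem_toList]
  have hx : ∀ x ∈ [x₁, x₂, x₃, x₄, x₅, x₆], g x = x := fun x hx =>
    mem_fixF.mp ((hmem x).mpr hx)
  obtain ⟨h, hh, e1, e2, e3, e4, e5, e6⟩ := norm6 x₁ x₂ x₃ x₄ x₅ x₆ hnd
  have e6' : h x₆ = pt 4 := by
    rcases e6 with ⟨-, o, ho, hall⟩ | ⟨e, -⟩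
    · exact absurd ⟨o, ho, fun x hx => hall x ((hmem x).mp hx)⟩ hno
    · exact e
  have hfix : ∀ f ∈ [3, 2, 1, 0, 23], (h * g * h⁻¹) (pt f) = pt f := by
    intro f hf
    simp only [List.mem_cons, List.not_mem_nil, or_false] at hf
    rcases hf with rfl | rfl | rfl | rfl | rfl
    · exact conj_apply e5 e5 (hx _ (by simp))
    · exact conj_apply e4 e4 (hx _ (by simp))
    · exact conj_apply e3 e3 (hx _ (by simp))
    · exact conj_apply e2 e2 (hx _ (by simp))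
    · exact conj_apply e1 e1 (hx _ (by simp))
  have hfix4 : (h * g * h⁻¹) (pt 4) = pt 4 := conj_apply e6' e6' (hx _ (by simp))
  obtain ⟨a', ha', b', hb', hF⟩ := enumID (conj_mem hg hh) hfix
  have c1 := all48_spec chk3A4 ha' hb'
  have c0 : Nat.beq (cand ID7 a' b' 4) 4 = true := by
    have := hF (pt 4)
    rw [hfix4, idx_pt 4 (by norm_num)] at this
    rw [← this]
    rfl
  have c2 : isId (cand ID7 a' b') = false := by
    by_contra hc
    rw [Bool.not_eq_false] at hc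
    exact conj_ne_one h1 (isId_of hF hc)
  rw [c0, c2] at c1
  simp only [Bool.not_true, Bool.false_or, Bool.or_eq_true] at c1
  refine ⟨h, hh, ?_⟩
  rcases c1 with c1 | c1
  · left
    rw [allI_iff] at c1
    exact isIdx_eq hF (isIdx_P X3A_vld) (fun i hi => Nat.eq_of_beq_eq_true (c1 i hi))
  · right
    rw [allI_iff] at c1
    exact isIdx_eq hF (isIdx_Pinv X3A_vld) (fun i hi => Nat.eq_of_beq_eq_true (c1 i hi))

set_option maxHeartbeats 1000000 in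
theorem ord3_conj_3B {g : Equiv.Perm GolayPt} (hg : g ∈ M24) (h3 : g * g * g = 1)
    (hf : ∀ p, g p ≠ p) : ∃ c ∈ M24, c * g * c⁻¹ = P X3B := by
  have hggg : ∀ x, g (g (g x)) = x := fun x => by
    have := congrArg (fun f : Equiv.Perm GolayPt => f x) h3
    simpa using this
  have hgg : ∀ x, g (g x) ≠ x := by
    intro x e
    apply hf x
    have := congrArg g e
    rw [hggg] at this
    exact this.symm
  obtain ⟨c, hc⟩ := exists_notMem ({pt 0, g (pt 0), g (g (pt 0))} : Finset GolayPt) (by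
    have := Finset.card_le_three (a := pt 0) (b := g (pt 0)) (c := g (g (pt 0)))
    omega)
  simp only [Finset.mem_insert, Finset.mem_singleton, not_or] at hc
  obtain ⟨hc1, hc2, hc3⟩ := hc
  generalize pt 0 = b at hc1 hc2 hc3
  have hgcb : g c ≠ b := by
    intro e
    apply hc3
    have := congrArg g e
    have := congrArg g this
    rw [hggg] at this
    exact this
  have hnd : [b, g b, g (g b), c, g c].Nodup := by
    simp only [List.nodup_cons, List.mem_cons, List.not_mem_nil, or_false, not_or,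
      List.nodup_nil, and_true, not_false_eq_true]
    exact ⟨⟨Ne.symm (hf b), Ne.symm (hgg b), Ne.symm hc1, Ne.symm hgcb⟩,
      ⟨fun e => hf b (g.injective e).symm, Ne.symm hc2, fun e => hc1 (g.injective e).symm⟩,
      ⟨Ne.symm hc3, fun e => hc2 (g.injective e).symm⟩, Ne.symm (hf c)⟩
  obtain ⟨h, hh, e1, e2, e3, e4, e5⟩ := trans5 b (g b) (g (g b)) c (g c) hnd
  have hz1 := idx_lt (h (g (g c)))
  have key2 : ∀ (x : GolayPt) (i : ℕ), g (g c) ≠ x → h x = pt i → idx (h (g (g c))) ≠ i := by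
    intro x i hx e
    apply idx_ne
    rw [← e]
    exact fun e' => hx (h.injective e')
  have n1 := key2 b 23 (by
    intro e
    apply hc2
    have := congrArg g e
    rw [hggg] at this
    exact this) e1
  have n2 := key2 (g b) 0 (fun e => hgcb (g.injective e)) e2
  have n3 := key2 (g (g b)) 1 (fun e => hc1 (g.injective (g.injective e))) e3
  have n4 := key2 c 2 (hgg c) e4
  have n5 := key2 (g c) 3 (fun e => hf c (g.injective e)) e5
  obtain ⟨w1, w2, w3, w4, w5, w6⟩ := WC3B_ok (idx (h (g (g c)))) (by omega) (by omega)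
  obtain ⟨a', ha', b', hb', hF⟩ := enumW (conj_mem hg hh) _ w1
    (i₁ := 0) (i₂ := 1) (i₃ := 23) (i₄ := 3) (i₅ := idx (h (g (g c)))) ⟨by norm_num, by norm_num,
      by norm_num, by norm_num, hz1⟩
    (conj_apply e1 e2 rfl) (conj_apply e2 e3 rfl) (conj_apply e3 e1 (hggg b))
    (conj_apply e4 e5 rfl) (by
      have := conj_apply (g := g) e5 (pt_idx (h (g (g c)))).symm rfl
      exact this) w2 w3 w4 w5 w6
  have c1 := all48_spec (chk3B (idx (h (g (g c)))) (by omega) (by omega)) ha' hb'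
  rw [isOrd3_of hF (conj_cube h3)] at c1
  have c2 : hasFix (cand (WC3B.getD (idx (h (g (g c)))) 0) a' b') = false := by
    by_contra hc
    rw [Bool.not_eq_false] at hc
    obtain ⟨p, hp⟩ := hasFix_of hF hc
    exact conj_fpf hf p hp
  rw [c2] at c1
  simp only [Bool.not_true, Bool.false_or] at c1
  obtain ⟨cm, ce⟩ := conj_sound hF X3B_vld c1
  exact ⟨_, M24.mul_mem cm hh, conj_trans ce⟩

set_option maxHeartbeats 1000000 in
theorem inv_conj_2B {g : Equiv.Perm GolayPt} (hg : g ∈ M24) (h2 : g * g = 1)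
    (hf : ∀ p, g p ≠ p) : ∃ c ∈ M24, c * g * c⁻¹ = P T2B := by
  have hgg : ∀ x, g (g x) = x := fun x => by
    have := congrArg (fun f : Equiv.Perm GolayPt => f x) h2
    simpa using this
  obtain ⟨c, hc⟩ := exists_notMem ({pt 0, g (pt 0)} : Finset GolayPt) (by
    have := Finset.card_le_two (a := pt 0) (b := g (pt 0))
    omega)
  simp only [Finset.mem_insert, Finset.mem_singleton, not_or] at hc
  obtain ⟨hc1, hc2⟩ := hc
  generalize pt 0 = b at hc1 hc2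
  obtain ⟨d, hd⟩ := exists_notMem ({b, g b, c, g c} : Finset GolayPt) (by
    have := Finset.card_le_four (a := b) (b := g b) (c := c) (d := g c)
    omega)
  simp only [Finset.mem_insert, Finset.mem_singleton, not_or] at hd
  obtain ⟨hd1, hd2, hd3, hd4⟩ := hd
  have hgcb : g c ≠ b := by
    intro e
    apply hc2
    have := congrArg g e
    rw [hgg] at this
    exact this
  have hnd : [b, g b, c, g c, d].Nodup := by
    simp only [List.nodup_cons, List.mem_cons, List.not_mem_nil, or_false, not_or,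
      List.nodup_nil, and_true, not_false_eq_true]
    exact ⟨⟨Ne.symm (hf b), Ne.symm hc1, Ne.symm hgcb, Ne.symm hd1⟩,
      ⟨Ne.symm hc2, fun e => hc1 (g.injective e).symm, Ne.symm hd2⟩,
      ⟨Ne.symm (hf c), Ne.symm hd3⟩, Ne.symm hd4⟩
  obtain ⟨h, hh, e1, e2, e3, e4, e5⟩ := trans5 b (g b) c (g c) d hnd
  have hz1 := idx_lt (h (g d))
  have key2 : ∀ (x : GolayPt) (i : ℕ), g d ≠ x → h x = pt i → idx (h (g d)) ≠ i := by
    intro x i hx e
    apply idx_ne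
    rw [← e]
    exact fun e' => hx (h.injective e')
  have n1 := key2 b 23 (by
    intro e
    apply hd2
    have := congrArg g e
    rw [hgg] at this
    exact this) e1
  have n2 := key2 (g b) 0 (fun e => hd1 (g.injective e)) e2
  have n3 := key2 c 1 (by
    intro e
    apply hd4
    have := congrArg g e
    rw [hgg] at this
    exact this) e3
  have n4 := key2 (g c) 2 (fun e => hd3 (g.injective e)) e4
  have n5 := key2 d 3 (hf d) e5
  obtain ⟨w1, w2, w3, w4, w5, w6⟩ := WC2B_ok (idx (h (g d))) (by omega) (by omega)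
  obtain ⟨a', ha', b', hb', hF⟩ := enumW (conj_mem hg hh) _ w1
    (i₁ := 0) (i₂ := 23) (i₃ := 2) (i₄ := 1) (i₅ := idx (h (g d))) ⟨by norm_num, by norm_num,
      by norm_num, by norm_num, hz1⟩
    (conj_apply e1 e2 rfl) (conj_apply e2 e1 (hgg b)) (conj_apply e3 e4 rfl)
    (conj_apply e4 e3 (hgg c)) (by
      have := conj_apply (g := g) e5 (pt_idx (h (g d))).symm rfl
      exact this) w2 w3 w4 w5 w6
  have c1 := all48_spec (chk2B (idx (h (g d))) (by omega) (by omega)) ha' hb'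
  rw [isInv_of hF (conj_sq h2)] at c1
  have c2 : hasFix (cand (WC2B.getD (idx (h (g d))) 0) a' b') = false := by
    by_contra hc
    rw [Bool.not_eq_false] at hc
    obtain ⟨p, hp⟩ := hasFix_of hF hc
    exact conj_fpf hf p hp
  rw [c2] at c1
  simp only [Bool.not_true, Bool.false_or] at c1
  obtain ⟨cm, ce⟩ := conj_sound hF T2B_vld c1
  exact ⟨_, M24.mul_mem cm hh, conj_trans ce⟩

end Cfsg.Agent.Lib.Helper28.M24Class
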